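import Mathlib
import Cfsg.Agent.H75.Transfer
import Cfsg.Agent.LieClassical.PomegaCard
import Cfsg.Agent.H160.QDisc
import Cfsg.Agent.S2141
import Cfsg.Agent.S0301
import Cfsg.Agent.S0822
import Cfsg.Agent.S2150

/-!
# S5719, box M: every proper subgroup of `E Q`, `dim V = 5`, odd characteristic, has index at least `q ^ 3`
(helper237)
-/

set_option autoImplicit false

namespace Cfsg.Agent.H237.IF

open QuadraticMap Module
open Cfsg.Agent.LieClassical.OrthCore Cfsg.Agent.LieClassical.OrthTrans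
open Cfsg.Agent.LieClassical.OrthFinite Cfsg.Agent.LieClassical.OrthForms
open Cfsg.Agent.H75.OrthIdx Cfsg.Agent.H160.QSpin Cfsg.Agent.H160.QDisc

section grp

variable {G H : Type*} [Group G] [Group H]

theorem sup_central_ne (hp : commutator G = ⊤) {K N : Subgroup G} (hN : N ≤ Subgroup.center G)
    (hK : K ≠ ⊤) : K ⊔ N ≠ ⊤ := by
  intro h
  apply hK
  rw [eq_top_iff, ← hp, commutator_def, Subgroup.commutator_le]
  intro x _ y _
  have hN' : N.Normal := ⟨fun n hn g => by
    rw [Subgroup.mem_center_iff.1 (hN hn) g, mul_inv_cancel_right]; exact hn⟩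
  have hx : x ∈ K ⊔ N := by rw [h]; trivial
  have hy : y ∈ K ⊔ N := by rw [h]; trivial
  obtain ⟨k, hk, n, hn, rfl⟩ := Subgroup.mem_sup_of_normal_right.1 hx
  obtain ⟨k', hk', n', hn', rfl⟩ := Subgroup.mem_sup_of_normal_right.1 hy
  have c1 : ∀ g, n * g = g * n := fun g => (Subgroup.mem_center_iff.1 (hN hn) g).symm
  have c2 : ∀ g, n' * g = g * n' := fun g => (Subgroup.mem_center_iff.1 (hN hn') g).symm
  rw [commutatorElement_def]
  have e : k * n * (k' * n') * (k * n)⁻¹ * (k' * n')⁻¹ = k * k' * k⁻¹ * k'⁻¹ := by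
    have e1 : k * n * (k' * n') = k * k' * (n * n') := by
      rw [mul_assoc, ← mul_assoc n, c1 k', mul_assoc k' n n', ← mul_assoc]
    have e2 : (k * n)⁻¹ * (k' * n')⁻¹ = (n * n')⁻¹ * (k⁻¹ * k'⁻¹) := by
      rw [← mul_inv_rev, ← mul_inv_rev, ← mul_inv_rev]
      congr 1
      rw [mul_assoc, c2, mul_assoc k n n', ← mul_assoc, ← mul_assoc]
    rw [mul_assoc, e2, e1, mul_assoc (k * k'), mul_inv_cancel_left, ← mul_assoc]
  rw [e]
  exact K.mul_mem (K.mul_mem (K.mul_mem hk hk') (K.inv_mem hk)) (K.inv_mem hk')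

theorem map_ne_top (hp : commutator G = ⊤) (f : G →* H) (hf : f.ker ≤ Subgroup.center G)
    {K : Subgroup G} (hK : K ≠ ⊤) : K.map f ≠ ⊤ := by
  intro h
  have h1 := Subgroup.comap_map_eq f K
  rw [h, Subgroup.comap_top] at h1
  exact sup_central_ne hp hf hK h1.symm

end grp

/-- the minimal index in `PSp 2 F` -/
theorem psp_min {F : Type*} [Field F] [Fintype F] (h2 : (2 : F) ≠ 0)
    (H : Subgroup (Cfsg.PSp 2 F)) (hH : H ≠ ⊤) : Fintype.card F ^ 3 ≤ H.index := by
  have hq1 : 1 < Fintype.card F := Fintype.one_lt_card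
  have hodd : Odd (Fintype.card F) := Cfsg.Agent.LieClassical.PomegaCard.odd_card_iff.2 h2
  have hq3 : 3 ≤ Fintype.card F := by
    rcases hodd with ⟨k, hk⟩
    omega
  by_cases h3 : Fintype.card F = 3
  · let K := GaloisField 2 2
    have : Finite K := Nat.finite_of_card_ne_zero (by rw [GaloisField.card 2 2 (by norm_num)]; norm_num)
    let _ : Fintype K := Fintype.ofFinite K
    have hK : Fintype.card K = 4 := by
      rw [← Nat.card_eq_fintype_card, GaloisField.card 2 2 (by norm_num)]; norm_num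
    obtain ⟨φ⟩ := Cfsg.Agent.S0822.result (F := K) (K := F) hK h3
    have h1 := (Cfsg.Agent.S2150.result (F := K) 2 (by rw [hK]; norm_num) (by norm_num)).1
      (H.comap (φ : Cfsg.PSU 4 K 2 →* Cfsg.PSp 2 F)) (by
        intro h2
        apply hH
        rw [eq_top_iff]
        intro y _
        obtain ⟨z, rfl⟩ := φ.surjective y
        have : z ∈ H.comap (φ : Cfsg.PSU 4 K 2 →* Cfsg.PSp 2 F) := by rw [h2]; trivial
        exact this)
    rw [Subgroup.index_comap_of_surjective _ φ.surjective] at h1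
    rw [h3]
    norm_num at h1 ⊢
    exact h1
  · have h1 := (Cfsg.Agent.S2141.result (F := F) rfl 2 le_rfl hq3 (fun h => h3 h.2)).1 H hH
    refine le_trans ?_ h1
    rw [Nat.le_div_iff_mul_le (by omega)]
    obtain ⟨r, hr⟩ : ∃ r, Fintype.card F = r + 1 := ⟨Fintype.card F - 1, by omega⟩
    rw [hr, Nat.add_sub_cancel]
    apply Nat.le_sub_of_add_le
    have h4 : 1 ≤ (r + 1) ^ 3 := Nat.one_le_pow _ _ (by omega)
    have h5 : (r + 1) ^ (2 * 2) = (r + 1) ^ 3 * r + (r + 1) ^ 3 := by ring
    rw [h5]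
    omega

section main

variable {F V W : Type*} [Field F] [AddCommGroup V] [Module F V] [AddCommGroup W] [Module F W]

theorem cj_mem_E' {Q : QuadraticForm F V} {Q' : QuadraticForm F W} {e : V ≃ₗ[F] W}
    (he : IsIso Q Q' e) {g : V ≃ₗ[F] V} (hg : g ∈ E Q) : cj e g ∈ E Q' := by
  have key : E Q ≤ (E Q').comap (cjEquiv e).toMonoidHom := by
    rw [E, Subgroup.closure_le]
    rintro _ ⟨u, w, hu, hw, rfl⟩
    have hu' : Q' (e u) = 0 := by rw [he, hu]
    have hw' : polar Q' (e u) (e w) = 0 := by rw [he.polar, hw]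
    have h1 : cj e (siegel Q u w hu hw) = siegel Q' (e u) (e w) hu' hw' := by
      ext v
      obtain ⟨v, rfl⟩ := e.surjective v
      rw [cj_apply', siegel_apply, siegel_apply, he.polar, he.polar, he]
      simp
    show cj e (siegel Q u w hu hw) ∈ E Q'
    rw [h1]
    exact siegel_mem_E _ _
  exact key hg

/-- the isomorphism of the groups `E` induced by an isometry -/
def eIso {Q : QuadraticForm F V} {Q' : QuadraticForm F W} {e : V ≃ₗ[F] W}
    (he : IsIso Q Q' e) : ↥(E Q) ≃* ↥(E Q') where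
  toFun g := ⟨cj e g.1, cj_mem_E' he g.2⟩
  invFun g := ⟨cj e.symm g.1, cj_mem_E' he.symm g.2⟩
  left_inv g := by ext v; simp [cj]
  right_inv g := by ext v; simp [cj]
  map_mul' a b := Subtype.ext (cj_mul e a.1 b.1)

theorem E_smul_le' {Q : QuadraticForm F V} {d : F} (hd : d ≠ 0) : E (d • Q) ≤ E Q := by
  have hpol : ∀ x y, polar (d • Q) x y = d * polar Q x y := fun x y => by
    simp only [QuadraticMap.polar, _root_.smul_apply, smul_eq_mul]; ring
  have hap : ∀ x, (d • Q) x = d * Q x := fun x => rfl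
  rw [E, Subgroup.closure_le]
  rintro _ ⟨u, w, hu, hw, rfl⟩
  have hu' : Q u = 0 := by
    rw [hap] at hu
    exact (mul_eq_zero.1 hu).resolve_left hd
  have hw' : polar Q u (d • w) = 0 := by
    rw [hpol] at hw
    rw [polar_smul_right, smul_eq_mul]
    exact hw
  have : siegel (d • Q) u w hu hw = siegel Q u (d • w) hu' hw' := by
    ext v
    rw [siegel_apply, siegel_apply, hpol, hpol, hap, QuadraticMap.map_smul, polar_smul_left]
    simp only [smul_eq_mul]
    module
  rw [this]
  exact siegel_mem_E _ _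

theorem E_smul' {Q : QuadraticForm F V} {d : F} (hd : d ≠ 0) : E (d • Q) = E Q := by
  apply le_antisymm (E_smul_le' hd)
  have h1 := E_smul_le' (Q := d • Q) (inv_ne_zero hd)
  rwa [smul_smul, inv_mul_cancel₀ hd, one_smul] at h1

/-- the groups `E` of the odd-dimensional nondegenerate spaces of equal dimension -/
theorem exists_equiv_odd [Finite F] [FiniteDimensional F V] [FiniteDimensional F W] (h2 : (2 : F) ≠ 0)
    {Q : QuadraticForm F V} {Q' : QuadraticForm F W} (hQ : Nondeg Q) (hQ' : Nondeg Q')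
    (hd : finrank F V = finrank F W) (ho : Odd (finrank F V)) : Nonempty (↥(E Q) ≃* ↥(E Q')) := by
  classical
  let _ : Fintype F := Fintype.ofFinite F
  have hs : dc Q * dc Q' = 1 ∨ dc Q * dc Q' = -1 := by
    rcases dc_cases hQ with h | h <;> rcases dc_cases hQ' with h' | h' <;> rw [h, h'] <;> norm_num
  obtain ⟨c, hc, hcc⟩ := exists_qc h2 hs
  have hQc : Nondeg (c • Q) := by
    intro x hx
    apply hQ
    intro y
    have h1 := hx y
    have h3 : polar (c • Q) x y = c * polar Q x y := by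
      simp only [QuadraticMap.polar, _root_.smul_apply, smul_eq_mul]; ring
    rw [h3] at h1
    exact (mul_eq_zero.1 h1).resolve_left hc
  have hdc : dc (c • Q) = dc Q' := by
    rw [dc_smul, hcc]
    obtain ⟨k, hk⟩ := ho
    rw [hk, pow_succ, pow_mul]
    rcases dc_cases hQ with h | h <;> rcases dc_cases hQ' with h' | h' <;> rw [h, h'] <;> norm_num
  obtain ⟨e, he⟩ := exists_iso h2 hQc hQ' hd hdc
  exact ⟨(MulEquiv.subgroupCongr (E_smul' hc).symm).trans (eIso he)⟩

/-- every proper subgroup of `E Q`, `dim V = 5`, has index at least `q ^ 3` -/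
theorem min_index_five [Finite F] [FiniteDimensional F V] {Q : QuadraticForm F V} (h2 : (2 : F) ≠ 0)
    (hQ : Nondeg Q) (h5 : finrank F V = 5) (K : Subgroup ↥(E Q)) (hK : K ≠ ⊤) :
    Nat.card F ^ 3 ≤ K.index := by
  classical
  let _ : Fintype F := Fintype.ofFinite F
  have hO : Nondeg (oddForm 2 F) := nondeg_oddForm 2 F h2
  have hfr : finrank F (Unit ⊕ (Fin 2 ⊕ Fin 2) → F) = 5 := by
    rw [Module.finrank_fintype_fun_eq_card]; simp
  have hG : Good (oddForm 2 F) := good_of_finite hO (by rw [hfr])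
  obtain ⟨ε⟩ := exists_equiv_odd h2 hQ hO (by rw [h5, hfr]) (by rw [h5]; decide)
  have hodd : Odd (Fintype.card F) := Cfsg.Agent.LieClassical.PomegaCard.odd_card_iff.2 h2
  have hi := (Cfsg.Agent.S0301.result (F := F) hodd)
  rw [← coe_oddForm] at hi
  obtain ⟨ι⟩ := hi
  let f : ↥(E Q) →* Cfsg.PSp 2 F := ι.toMonoidHom.comp ((omHom hG).comp ε.toMonoidHom)
  have hf : Function.Surjective f := ι.surjective.comp ((omHom_surjective hG).comp ε.surjective)
  have hk : f.ker ≤ Subgroup.center ↥(E Q) := by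
    intro z hz
    have h1 : ι (omHom hG (ε z)) = 1 := hz
    rw [MulEquiv.map_eq_one_iff] at h1
    have h3 : ε z ∈ (omHom hG).ker := h1
    rw [omHom_ker] at h3
    rw [Subgroup.mem_center_iff] at h3 ⊢
    intro g
    apply ε.injective
    rw [map_mul, map_mul, h3]
  have hp : commutator ↥(E Q) = ⊤ := by
    apply Subgroup.map_injective (Subgroup.subtype_injective (E Q))
    rw [Subgroup.map_subtype_commutator, (good_of_finite hQ (by rw [h5])).E_perfect,
      ← MonoidHom.range_eq_map, Subgroup.range_subtype]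
  have h1 := psp_min h2 (K.map f) (map_ne_top hp f hk hK)
  rw [Nat.card_eq_fintype_card]
  refine h1.trans (Nat.le_of_dvd ?_ (Subgroup.index_map_dvd K hf))
  have : Finite V := Module.finite_of_finite F
  exact Nat.pos_of_ne_zero Subgroup.index_ne_zero_of_finite

end main

end Cfsg.Agent.H237.IF
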